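import Groth.Agent.HTop.K345.PhRef

/-!
# Standard ph coverings and `IsPhRef`

* `IsPhRef.of_isStandardPh`, `exists_isStandardPh_of_isPhRef`.
* `isStandardPh_pullback`, `isPhCover_pullback`, `isPhCover_bind`, `exists_isStandardPh_refining_openCover`,
  `exists_isStandardPh_refining_bind`.
-/

set_option autoImplicit false
universe w w' w'' u

open CategoryTheory CategoryTheory.Limits AlgebraicGeometry HTop

namespace K345.PhStd

open K345.PhRef

/-- The proper surjective morphism underlying a standard ph covering factors locally through the members. -/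
theorem locFac_of_isStandardPh {T U : Scheme.{u}} {E : PreZeroHypercover.{w} T} (f : U ⟶ T)
    (ι : ∀ j, E.X j ⟶ U) (hι : ∀ j, IsOpenImmersion (ι j)) (hf : ∀ j, ι j ≫ f = E.f j)
    (hcov : ∀ x : U, ∃ j, x ∈ Set.range (ι j).base) : LocFacOn f E Set.univ := by
  intro x _
  obtain ⟨j, y, hy⟩ := hcov x
  have h1 : LocFacOn (ι j ≫ f) E Set.univ :=
    LocFacOn.of_fac j (𝟙 _) (by rw [Category.id_comp, hf j]) _
  exact LocFacOn.of_openImmersion (ι j) h1 x ⟨y, trivial, hy⟩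

theorem isPhRef_of_isStandardPh {T : Scheme.{u}} {E : PreZeroHypercover.{w} T} (hE : IsStandardPh E) :
    IsPhRef (𝟙 T) E := by
  obtain ⟨U, f, ι, h1, h2, h3, h4, h5⟩ := hE.exists_proper
  exact ⟨U, f, h1, h2, by rw [Category.comp_id]; exact locFac_of_isStandardPh f ι h3 h4 h5⟩

theorem isPhRef_of_refinesOver {T T' : Scheme.{u}} {g : T ⟶ T'} {F : PreZeroHypercover.{w'} T}
    {E : PreZeroHypercover.{w} T'} (hF : IsStandardPh F) (h : RefinesOver g F E) : IsPhRef g E := by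
  simpa using (isPhRef_of_isStandardPh hF).postcomp g h

/-- From `IsPhRef` over an affine scheme one gets a refining standard ph covering indexed in universe zero. -/
theorem exists_isStandardPh_of_isPhRef {T T' : Scheme.{u}} [IsAffine T] {g : T ⟶ T'}
    {E : PreZeroHypercover.{w} T'} (h : IsPhRef g E) :
    ∃ F : PreZeroHypercover.{0} T, IsStandardPh F ∧ RefinesOver g F E := by
  obtain ⟨U, f, hf, hfs, hU⟩ := h
  have : CompactSpace U := QuasiCompact.compactSpace_of_compactSpace f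
  have h1 : ∀ x : U, ∃ (V : U.Opens) (i : E.I₀) (h : (V : Scheme.{u}) ⟶ E.X i), IsAffineOpen V ∧ x ∈ V ∧
      h ≫ E.f i = V.ι ≫ f ≫ g := by
    intro x
    obtain ⟨V, i, h, hx, hh⟩ := hU x trivial
    obtain ⟨_, ⟨V', hV', rfl⟩, hxV', hle⟩ :=
      U.isBasis_affineOpens.exists_subset_of_mem_open (show x ∈ (V : Set U) from hx) V.2
    exact ⟨V', i, U.homOfLE hle ≫ h, hV', hxV', by rw [Category.assoc, hh, Scheme.homOfLE_ι_assoc]⟩
  choose V i h hV hxV hh using h1
  obtain ⟨t, ht⟩ := CompactSpace.elim_nhds_subcover (fun x => (V x : Set U))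
    (fun x => (V x).2.mem_nhds (hxV x))
  let e := t.equivFin
  let F : PreZeroHypercover.{0} T :=
    { I₀ := Fin t.card
      X := fun k => (V (e.symm k).1 : Scheme.{u})
      f := fun k => (V (e.symm k).1).ι ≫ f }
  refine ⟨F, ⟨inferInstance, inferInstanceAs (Finite (Fin t.card)), fun k => hV _,
    U, f, fun k => (V (e.symm k).1).ι, hf, hfs, fun k => ?_, fun k => rfl, fun x => ?_⟩, fun k => ?_⟩
  · exact inferInstanceAs (IsOpenImmersion (V (e.symm k).1).ι)
  · have hx : x ∈ ⋃ a ∈ t, (V a : Set U) := by rw [ht]; trivial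
    simp only [Set.mem_iUnion] at hx
    obtain ⟨a, ha, hxa⟩ := hx
    refine ⟨e ⟨a, ha⟩, ?_⟩
    have hk : e.symm (e ⟨a, ha⟩) = ⟨a, ha⟩ := e.symm_apply_apply _
    change x ∈ Set.range (V (e.symm (e ⟨a, ha⟩)).1).ι
    rw [hk]
    simpa using hxa
  · exact ⟨i (e.symm k).1, h (e.symm k).1, by
      change _ = ((V (e.symm k).1).ι ≫ f) ≫ g
      rw [hh, Category.assoc]⟩

/-- Base change of a standard ph covering along a morphism from an affine scheme. -/
theorem isStandardPh_pullback {T T' : Scheme.{u}} [IsAffine T'] (g : T' ⟶ T) (E : PreZeroHypercover.{w} T)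
    (hE : IsStandardPh E) : IsStandardPh (E.pullback₁ g) := by
  have := hE.isAffine
  have := hE.finite_index
  have hX : ∀ j, IsAffine (E.X j) := hE.isAffine_obj
  obtain ⟨U, f, ι, h1, h2, h3, h4, h5⟩ := hE.exists_proper
  let m : ∀ j : E.I₀, pullback g (E.f j) ⟶ pullback g f := fun j =>
    pullback.map g (E.f j) g f (𝟙 _) (ι j) (𝟙 _) (by simp) (by simp [h4])
  have hm : ∀ j, IsOpenImmersion (m j) := fun j => by
    have := h3 j
    dsimp only [m]
    infer_instance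
  have hmf : ∀ j, m j ≫ pullback.fst g f = pullback.fst g (E.f j) := fun j =>
    (pullback.lift_fst _ _ _).trans (Category.comp_id _)
  have hmc : ∀ x, ∃ j, x ∈ Set.range (m j) := fun x => by
    obtain ⟨j, y, hy⟩ := h5 (pullback.snd g f x)
    refine ⟨j, ?_⟩
    dsimp only [m]
    rw [Scheme.Pullback.range_map]
    exact ⟨⟨pullback.fst g f x, rfl⟩, ⟨y, hy⟩⟩
  exact ⟨inferInstance, inferInstanceAs (Finite E.I₀), fun j => inferInstanceAs (IsAffine (pullback g (E.f j))),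
    pullback g f, pullback.fst g f, m, inferInstance, inferInstance, hm, hmf, hmc⟩

/-- A ph covering gives `IsPhRef` for every morphism from a quasi-compact quasi-separated scheme. -/
theorem isPhRef_of_isPhCover {T : Scheme.{u}} {E : PreZeroHypercover.{w} T}
    (hE : ∀ U : T.affineOpens, IsPhRef (U : T.Opens).ι E) {Z : Scheme.{u}} [CompactSpace Z]
    [QuasiSeparatedSpace Z] (r : Z ⟶ T) : IsPhRef r E := by
  let G : PreZeroHypercover.{u} T :=
    { I₀ := T.affineOpens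
      X := fun U => ((U : T.Opens) : Scheme.{u})
      f := fun U => (U : T.Opens).ι }
  have hG : IsPhRef r G := by
    apply IsPhRef.of_locFacOn
    intro x _
    obtain ⟨_, ⟨V', hV', rfl⟩, hxV', -⟩ :=
      T.isBasis_affineOpens.exists_subset_of_mem_open (Set.mem_univ (r x)) isOpen_univ
    exact ⟨r ⁻¹ᵁ V', ⟨V', hV'⟩, r ∣_ V', hxV', morphismRestrict_ι r V'⟩
  exact hG.trans hE

theorem isPhCover_iff {T : Scheme.{u}} (E : PreZeroHypercover.{w} T) :
    IsPhCover E ↔ (∀ i, LocallyOfFiniteType (E.f i)) ∧ ∀ U : T.affineOpens, IsPhRef (U : T.Opens).ι E := by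
  refine and_congr_right fun _ => forall_congr' fun U => ⟨?_, fun h => ?_⟩
  · rintro ⟨F, hF, hr⟩
    exact isPhRef_of_refinesOver hF hr
  · have : IsAffine ((U : T.Opens) : Scheme.{u}) := U.2
    exact exists_isStandardPh_of_isPhRef h

theorem isPhCover_pullback {T T' : Scheme.{u}} (g : T' ⟶ T) (E : PreZeroHypercover.{w} T)
    (hE : IsPhCover E) : IsPhCover (E.pullback₁ g) := by
  rw [isPhCover_iff] at hE ⊢
  refine ⟨fun i => ?_, fun U => ?_⟩
  · have := hE.1 i
    exact inferInstanceAs (LocallyOfFiniteType (pullback.fst g (E.f i)))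
  · have : IsAffine ((U : T'.Opens) : Scheme.{u}) := U.2
    obtain ⟨P, p, hp, hps, hP⟩ := isPhRef_of_isPhCover hE.2 ((U : T'.Opens).ι ≫ g)
    refine ⟨P, p, hp, hps, fun x hx => ?_⟩
    obtain ⟨V, i, h, hxV, hh⟩ := hP x hx
    exact ⟨V, i, pullback.lift (V.ι ≫ p ≫ (U : T'.Opens).ι) h (by simpa using hh.symm), hxV,
      pullback.lift_fst _ _ _⟩

theorem isPhCover_bind {T : Scheme.{u}} (E : PreZeroHypercover.{w} T) (hE : IsPhCover E)
    (F : ∀ i, PreZeroHypercover.{w'} (E.X i)) (hF : ∀ i, IsPhCover (F i)) : IsPhCover (E.bind F) := by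
  rw [isPhCover_iff] at hE ⊢
  simp only [isPhCover_iff] at hF
  refine ⟨fun i => ?_, fun U => ?_⟩
  · have := hE.1 i.1
    have := (hF i.1).1 i.2
    exact inferInstanceAs (LocallyOfFiniteType ((F i.1).f i.2 ≫ E.f i.1))
  · have : IsAffine ((U : T.Opens) : Scheme.{u}) := U.2
    let G : PreZeroHypercover.{max w u} T := E.bind fun i =>
      { I₀ := (E.X i).affineOpens
        X := fun U => ((U : (E.X i).Opens) : Scheme.{u})
        f := fun U => (U : (E.X i).Opens).ι }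
    have hG : IsPhRef (U : T.Opens).ι G := by
      obtain ⟨P, p, hp, hps, hP⟩ := hE.2 U
      refine ⟨P, p, hp, hps, fun x hx => ?_⟩
      obtain ⟨V, i, h, hxV, hh⟩ := hP x hx
      obtain ⟨V', hV', hxV'⟩ : ∃ V' : (E.X i).Opens, IsAffineOpen V' ∧ h ⟨x, hxV⟩ ∈ V' := by
        obtain ⟨_, ⟨V', hV', rfl⟩, hxV', -⟩ :=
          (E.X i).isBasis_affineOpens.exists_subset_of_mem_open (Set.mem_univ (h ⟨x, hxV⟩)) isOpen_univ
        exact ⟨V', hV', hxV'⟩
      refine ⟨V.ι ''ᵁ (h ⁻¹ᵁ V'), ⟨i, ⟨V', hV'⟩⟩, (V.ι.isoImage (h ⁻¹ᵁ V')).inv ≫ (h ∣_ V'),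
        ⟨⟨x, hxV⟩, hxV', rfl⟩, ?_⟩
      change ((V.ι.isoImage (h ⁻¹ᵁ V')).inv ≫ (h ∣_ V')) ≫ (V'.ι ≫ E.f i) = _
      rw [Category.assoc, morphismRestrict_ι_assoc, hh, Iso.inv_comp_eq, Scheme.Hom.isoImage_hom_ι_assoc]
    refine hG.trans fun i => ?_
    change IsPhRef ((i.2 : (E.X i.1).Opens).ι ≫ E.f i.1) _
    exact ((hF i.1).2 i.2).postcomp (E.f i.1) fun k => ⟨⟨i.1, k⟩, 𝟙 _, Category.id_comp _⟩

theorem exists_isStandardPh_refining_openCover {T : Scheme.{u}} [IsAffine T] (𝒰 : T.OpenCover) :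
    ∃ F : PreZeroHypercover.{0} T, IsStandardPh F ∧ Nonempty (F.Hom 𝒰.toPreZeroHypercover) := by
  have h1 : IsPhRef (𝟙 T) 𝒰.toPreZeroHypercover := by
    apply IsPhRef.of_locFacOn
    intro x _
    have h2 : LocFacOn (𝒰.f (𝒰.idx x) ≫ 𝟙 T) 𝒰.toPreZeroHypercover Set.univ :=
      LocFacOn.of_fac (E := 𝒰.toPreZeroHypercover) (𝒰.idx x) (𝟙 _) (by simp) _
    obtain ⟨y, hy⟩ := 𝒰.covers x
    exact LocFacOn.of_openImmersion (𝒰.f (𝒰.idx x)) h2 x ⟨y, trivial, hy⟩
  obtain ⟨F, hF, hr⟩ := exists_isStandardPh_of_isPhRef h1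
  choose i h hh using hr
  exact ⟨F, hF, ⟨{ s₀ := i, h₀ := h, w₀ := fun j => by simpa using hh j }⟩⟩

theorem exists_isStandardPh_refining_bind {T : Scheme.{u}} (E : PreZeroHypercover.{w} T)
    (hE : IsStandardPh E) (F : ∀ j, PreZeroHypercover.{w'} (E.X j)) (hF : ∀ j, IsStandardPh (F j)) :
    ∃ F' : PreZeroHypercover.{0} T, IsStandardPh F' ∧ Nonempty (F'.Hom (E.bind F)) := by
  have := hE.isAffine
  have h1 : IsPhRef (𝟙 T) (E.bind F) := by
    refine (isPhRef_of_isStandardPh hE).trans fun j => ?_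
    simpa using (isPhRef_of_isStandardPh (hF j)).postcomp (E.f j) (E' := E.bind F)
      fun k => ⟨⟨j, k⟩, 𝟙 _, Category.id_comp _⟩
  obtain ⟨F, hF, hr⟩ := exists_isStandardPh_of_isPhRef h1
  choose i h hh using hr
  exact ⟨F, hF, ⟨{ s₀ := i, h₀ := h, w₀ := fun j => by simpa using hh j }⟩⟩

end K345.PhStd
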