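import Groth.Prelude.Def_HTop
import Mathlib.AlgebraicGeometry.Sites.Fpqc
import Groth.Agent.HTop.K346.VCover

/-!
# fpqc coverings as families of flat morphisms with a quasi-compactness condition
-/

set_option autoImplicit false
universe w w' w'' u

open CategoryTheory CategoryTheory.Limits AlgebraicGeometry

namespace K345.Fpqc

theorem exists_preimage_of_qc {T : Scheme.{u}} (E : PreZeroHypercover.{w} T) [QuasiCompactCover E] (x : T) :
    ∃ (i : E.I₀) (y : E.X i), E.f i y = x := by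
  obtain ⟨_, ⟨U, hU, rfl⟩, hxU, -⟩ :=
    T.isBasis_affineOpens.exists_subset_of_mem_open (Set.mem_univ x) isOpen_univ
  obtain ⟨s, hs, V, hV, heq⟩ := hU.isCompactOpenCovered E
  rw [← heq] at hxU
  simp only [Set.mem_iUnion, Set.mem_image] at hxU
  obtain ⟨i, _, y, _, hy⟩ := hxU
  exact ⟨i, y, hy⟩

theorem mem_fpqc_iff {T : Scheme.{u}} (E : PreZeroHypercover.{w} T) :
    E.presieve₀ ∈ Scheme.fpqcPrecoverage T ↔ (∀ i, Flat (E.f i)) ∧ QuasiCompactCover E := by
  constructor
  · intro h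
    have h1 : E.presieve₀ ∈ Scheme.qcPrecoverage T := h.1
    have h2 : E.presieve₀ ∈ Scheme.precoverage @Flat T := h.2
    rw [Scheme.presieve₀_mem_qcPrecoverage_iff] at h1
    rw [Scheme.ofArrows_mem_precoverage_iff] at h2
    exact ⟨h2.2, h1⟩
  · rintro ⟨h1, h2⟩
    refine ⟨Scheme.presieve₀_mem_qcPrecoverage_iff.2 h2, ?_⟩
    change Presieve.ofArrows E.X E.f ∈ Scheme.precoverage @Flat T
    rw [Scheme.ofArrows_mem_precoverage_iff]
    refine ⟨fun x => ?_, h1⟩
    obtain ⟨i, y, hy⟩ := exists_preimage_of_qc E x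
    exact ⟨i, y, hy⟩

/-- fpqc coverings are V coverings. -/
theorem isVCover_of_flat_of_qc {T : Scheme.{u}} (E : PreZeroHypercover.{w} T) (hfl : ∀ i, Flat (E.f i))
    [QuasiCompactCover E] : HTop.IsVCover E := by
  apply K346.VCover.isVCover_of_forall_affineOpens.{w, 0}
  intro U
  obtain ⟨n, a, V, hV, heq⟩ := QuasiCompactCover.exists_isAffineOpen_of_isCompact E
    (U := (U : T.Opens)) U.2.isCompact
  have hle : ∀ j, Set.range ((V j).ι ≫ E.f (a j)) ⊆ Set.range (U : T.Opens).ι := by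
    intro j
    rw [Scheme.Opens.range_ι, ← heq]
    rintro _ ⟨y, rfl⟩
    exact Set.mem_iUnion.2 ⟨j, _, y.2, rfl⟩
  let F : PreZeroHypercover.{0} ((U : T.Opens) : Scheme.{u}) :=
    { I₀ := Fin n
      X := fun j => (V j : Scheme.{u})
      f := fun j => IsOpenImmersion.lift (U : T.Opens).ι ((V j).ι ≫ E.f (a j)) (hle j) }
  refine ⟨F, inferInstanceAs (Finite (Fin n)), fun j => ?_, K346.ValLift.hasValLift_of_flat F (fun j => ?_) ?_,
    fun j => ⟨a j, (V j).ι, ?_⟩⟩
  · change CompactSpace (V j)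
    exact isCompact_iff_compactSpace.mp (hV j).isCompact
  · have h1 : Flat (IsOpenImmersion.lift (U : T.Opens).ι ((V j).ι ≫ E.f (a j)) (hle j) ≫
        (U : T.Opens).ι) := by
      rw [IsOpenImmersion.lift_fac]
      have := hfl (a j)
      infer_instance
    exact MorphismProperty.of_postcomp (W := @Flat) (W' := MorphismProperty.monomorphisms Scheme.{u}) _
      (U : T.Opens).ι (inferInstanceAs (Mono (U : T.Opens).ι)) h1
  · intro x
    have hx : (U : T.Opens).ι x ∈ ((U : T.Opens) : Set T) := x.2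
    rw [← heq] at hx
    obtain ⟨j, y, hy, hyx⟩ := Set.mem_iUnion.1 hx
    refine ⟨j, ⟨y, hy⟩, ?_⟩
    have h2 : (U : T.Opens).ι (IsOpenImmersion.lift (U : T.Opens).ι ((V j).ι ≫ E.f (a j)) (hle j) ⟨y, hy⟩) =
        (U : T.Opens).ι x := by
      rw [← Scheme.Hom.comp_apply, IsOpenImmersion.lift_fac]
      exact hyx
    exact (U : T.Opens).ι.isOpenEmbedding.injective h2
  · exact (IsOpenImmersion.lift_fac _ _ _).symm

/-- The neighbourhood form of the quasi-compactness condition over a quasi-separated base. -/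
theorem quasiCompactCover_iff_nhds {T : Scheme.{u}} [QuasiSeparatedSpace T] (E : PreZeroHypercover.{w} T) :
    QuasiCompactCover E ↔ ∀ t : T, ∃ (n : ℕ) (i : Fin n → E.I₀) (V : ∀ j, (E.X (i j)).Opens),
      (∀ j, IsCompact (V j : Set (E.X (i j)))) ∧
        (⋃ j, ⇑(E.f (i j)) '' (V j : Set (E.X (i j)))) ∈ nhds t := by
  constructor
  · intro h t
    obtain ⟨_, ⟨U, hU, rfl⟩, htU, -⟩ :=
      T.isBasis_affineOpens.exists_subset_of_mem_open (Set.mem_univ t) isOpen_univ
    obtain ⟨n, a, V, hV, heq⟩ := QuasiCompactCover.exists_isAffineOpen_of_isCompact E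
      (U := U) hU.isCompact
    exact ⟨n, a, V, fun j => (hV j).isCompact, by rw [heq]; exact U.2.mem_nhds htU⟩
  · intro h
    refine ⟨fun {U} hU => ?_⟩
    refine .of_isCompact_of_forall_exists_isCompactOpenCovered hU.isCompact fun t ht => ?_
    obtain ⟨n, i, V, hV, hn⟩ := h t
    obtain ⟨_, ⟨W, hW, rfl⟩, htW, hWle⟩ := T.isBasis_affineOpens.exists_subset_of_mem_open
      (show t ∈ (U : Set T) ∩ interior (⋃ j, ⇑(E.f (i j)) '' (V j : Set (E.X (i j)))) from
        ⟨ht, mem_interior_iff_mem_nhds.2 hn⟩) (U.2.inter isOpen_interior)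
    refine ⟨W, fun x hx => (hWle hx).1, htW, W.2, ?_⟩
    have hc : ∀ j, IsCompact ((V j ⊓ E.f (i j) ⁻¹ᵁ W : (E.X (i j)).Opens) : Set (E.X (i j))) := by
      intro j
      have : CompactSpace (V j) := isCompact_iff_compactSpace.mp (hV j)
      have : QuasiCompact ((V j).ι ≫ E.f (i j)) := quasiCompact_of_compactSpace _
      have h1 : IsCompact (((V j).ι ≫ E.f (i j)) ⁻¹' (W : Set T)) :=
        QuasiCompact.isCompact_preimage _ W.2 hW.isCompact
      have h2 := h1.image (V j).ι.continuous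
      convert! h2 using 1
      ext x
      constructor
      · rintro ⟨hx1, hx2⟩
        exact ⟨⟨x, hx1⟩, hx2, rfl⟩
      · rintro ⟨y, hy, rfl⟩
        exact ⟨y.2, hy⟩
    refine .of_finite i (fun j => V j ⊓ E.f (i j) ⁻¹ᵁ W) hc ?_
    apply subset_antisymm
    · rintro x hx
      obtain ⟨j, y, hy, rfl⟩ := Set.mem_iUnion.1 hx
      exact hy.2
    · intro x hx
      obtain ⟨j, y, hy, rfl⟩ := Set.mem_iUnion.1 (interior_subset (hWle hx).2)
      exact Set.mem_iUnion.2 ⟨j, y, ⟨hy, hx⟩, rfl⟩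

theorem quasiCompactCover_of_locally {T : Scheme.{u}} (E : PreZeroHypercover.{u} T)
    (V : PreZeroHypercover.{w} T) [QuasiCompactCover V]
    (hloc : ∀ j, QuasiCompactCover (E.pullback₁ (V.f j))) : QuasiCompactCover E := by
  let V' := QuasiCompactCover.ulift V
  have h1 : ∀ j, QuasiCompactCover (E.pullback₁ (V'.f j)) := fun j => hloc _
  have h2 : QuasiCompactCover (V'.bind fun j => E.pullback₁ (V'.f j)) := inferInstance
  exact QuasiCompactCover.of_hom (𝒱 := V'.bind fun j => E.pullback₁ (V'.f j)) (𝒰 := E)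
    { s₀ := fun x => x.2
      h₀ := fun x => pullback.snd (V'.f x.1) (E.f x.2)
      w₀ := fun x => pullback.condition.symm }

theorem quasiCompactCover_sigmaDesc_iff {T : Scheme.{u}} (E : PreZeroHypercover.{u} T) :
    QuasiCompactCover E ↔ QuasiCompactCover (PreZeroHypercover.singleton.{0} (Sigma.desc E.f)) := by
  constructor
  · intro h
    exact QuasiCompactCover.of_hom (𝒱 := E) (𝒰 := PreZeroHypercover.singleton.{0} (Sigma.desc E.f))
      { s₀ := fun _ => PUnit.unit
        h₀ := fun i => Sigma.ι E.X i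
        w₀ := fun i => Sigma.ι_desc _ _ }
  · intro h
    refine ⟨fun {U} hU => ?_⟩
    have h1 := hU.isCompactOpenCovered (PreZeroHypercover.singleton.{0} (Sigma.desc E.f))
    rw [IsCompactOpenCovered.iff_of_unique] at h1
    obtain ⟨V, hV, heq⟩ := h1
    change TopologicalSpace.Opens ↑(∐ E.X) at V
    change Sigma.desc E.f '' (V : Set ↑(∐ E.X)) = _ at heq
    have h2 : IsCompactOpenCovered (fun i => (Sigma.ι E.X i)) (V : Set ↑(∐ E.X)) := by
      refine IsCompactOpenCovered.of_isOpenMap (fun i => (Sigma.ι E.X i).continuous)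
        (fun i => (Sigma.ι E.X i).isOpenEmbedding.isOpenMap) (fun x _ => ?_) V.2 hV
      obtain ⟨i, y, hy⟩ := (sigmaOpenCover E.X).exists_eq x
      exact ⟨i, y, hy⟩
    obtain ⟨s, hs, W, hW, hWV⟩ := h2
    refine ⟨s, hs, W, hW, ?_⟩
    rw [← heq, ← hWV]
    simp only [Set.image_iUnion, ← Set.image_comp]
    refine Set.iUnion_congr fun i => Set.iUnion_congr fun hi => ?_
    congr 1
    ext y
    simp only [Function.comp]
    rw [← Scheme.Hom.comp_apply, Sigma.ι_desc]

theorem fpqc_iff_sigmaDesc {T : Scheme.{u}} (E : PreZeroHypercover.{u} T) :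
    E.presieve₀ ∈ Scheme.fpqcPrecoverage T ↔
      Presieve.singleton (Sigma.desc E.f) ∈ Scheme.fpqcPrecoverage T := by
  have e : Presieve.singleton (Sigma.desc E.f) =
      (PreZeroHypercover.singleton.{0} (Sigma.desc E.f)).presieve₀ :=
    (PreZeroHypercover.presieve₀_singleton _).symm
  rw [e, mem_fpqc_iff, mem_fpqc_iff, quasiCompactCover_sigmaDesc_iff]
  refine and_congr_left fun _ => ⟨fun h => ?_, fun h i => ?_⟩
  · rintro ⟨⟩
    exact IsZariskiLocalAtSource.sigmaDesc h
  · have h1 : Flat (Sigma.desc E.f) := h PUnit.unit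
    rw [← Sigma.ι_desc E.f i]
    infer_instance

theorem fpqc_of_refining {T : Scheme.{u}} (E : PreZeroHypercover.{w} T) (hflat : ∀ i, Flat (E.f i))
    (href : ∀ (Z : Scheme.{u}) [IsAffine Z] (h : Z ⟶ T), ∃ F : PreZeroHypercover.{0} Z, Finite F.I₀ ∧
      (∀ j, IsAffine (F.X j)) ∧ (∀ j, Flat (F.f j)) ∧ (∀ z : Z, ∃ (j : F.I₀) (x : F.X j), F.f j x = z) ∧
      HTop.RefinesOver h F E) : E.presieve₀ ∈ Scheme.fpqcPrecoverage T := by
  rw [mem_fpqc_iff]
  refine ⟨hflat, ⟨fun {U} hU => ?_⟩⟩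
  have : IsAffine U := hU
  obtain ⟨F, hF, hFa, -, hFs, hr⟩ := href U U.ι
  choose i k hk using hr
  refine IsCompactOpenCovered.of_comp (X := fun i : E.I₀ => ↥(E.X i)) (f := fun i => ⇑(E.f i)) (fun j => ((F.f j ≫ U.ι) : F.X j ⟶ T)) (fun j => k j)
    (fun j => (k j).continuous) (fun j => ?_) (fun i => (E.f i).continuous) U.2 ?_
  · ext x
    rw [← hk j]
    rfl
  · refine .of_finite (fun j => j) (fun j => ⊤) (fun j => ?_) ?_
    · have : IsAffine (F.X j) := hFa j
      exact isCompact_univ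
    · apply subset_antisymm
      · rintro x hx
        obtain ⟨j, y, -, rfl⟩ := Set.mem_iUnion.1 hx
        exact (F.f j y).2
      · intro x hx
        obtain ⟨j, y, hy⟩ := hFs ⟨x, hx⟩
        refine Set.mem_iUnion.2 ⟨j, y, trivial, ?_⟩
        change U.ι (F.f j y) = x
        rw [hy]
        rfl

end K345.Fpqc
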