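import Groth.Agent.S7425
import Groth.Agent.S7424
import Groth.Agent.S7421
import Groth.Agent.FlatA.UnivHomeo
import Mathlib.AlgebraicGeometry.Morphisms.ClosedImmersion

/-!
# Characterizations of absolutely weakly normal schemes
-/

set_option autoImplicit false
universe u
open CategoryTheory CategoryTheory.Limits AlgebraicGeometry
open HTop

namespace K345.AwnIff

theorem isUnivHomeo_id (X : Scheme.{u}) : FlatMor.IsUnivHomeo (𝟙 X) :=
  (Groth.Agent.FlatA.UnivHomeo.isUnivHomeo_iff (𝟙 X)).2 ⟨inferInstance, inferInstance, inferInstance⟩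

theorem isAWN_iff_id {X : Scheme.{u}} : IsAWN X ↔ IsAWNormalization (𝟙 X) := by
  constructor
  · intro hX
    obtain ⟨X', ν, hν⟩ := Groth.Agent.S7424.result X
    have hiso : IsIso ν :=
      (Groth.Agent.S7425.result ν hν (𝟙 X) (isUnivHomeo_id X) ν (Category.comp_id _)).2 hX
    refine ⟨isUnivHomeo_id X, fun Y π hπ => ?_⟩
    obtain ⟨h, hh, hu⟩ := hν.2 Y π hπ
    refine ⟨inv ν ≫ h, by simp [hh], fun k hk => ?_⟩
    have h1 : ν ≫ k = h := hu _ (by simp [hk])
    rw [← h1, IsIso.inv_hom_id_assoc]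
  · intro hX
    exact (Groth.Agent.S7425.result (𝟙 X) hX (𝟙 X) (isUnivHomeo_id X) (𝟙 X) (Category.comp_id _)).1
      inferInstance

theorem isAWN_iff_forall {X : Scheme.{u}} : IsAWN X ↔
    ∀ (Y : Scheme.{u}) (π : Y ⟶ X), FlatMor.IsUnivHomeo π → AlgebraicGeometry.IsReduced Y → IsIso π := by
  constructor
  · intro hX Y π hπ hY
    obtain ⟨h, hh, -⟩ := (isAWN_iff_id.1 hX).2 Y π hπ
    obtain ⟨h1, h2, h3⟩ := (Groth.Agent.FlatA.UnivHomeo.isUnivHomeo_iff π).1 hπ
    have hcl : IsClosedImmersion h := by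
      have h4 : IsClosedImmersion (h ≫ π) := by rw [hh]; infer_instance
      exact IsClosedImmersion.of_comp h π
    have hs : Surjective h := by
      refine ⟨fun y => ⟨π y, ?_⟩⟩
      have h5 : Function.Injective π := π.injective
      apply h5
      rw [← Scheme.Hom.comp_apply, hh]
      rfl
    have hi : IsIso h := isIso_of_isClosedImmersion_of_surjective h
    exact IsIso.of_isIso_fac_left hh
  · intro h
    obtain ⟨X', ν, hν⟩ := Groth.Agent.S7424.result X
    have hX' : IsAWN X' :=
      (Groth.Agent.S7425.result ν hν ν hν.1 (𝟙 X') (Category.id_comp _)).1 inferInstance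
    have hred : AlgebraicGeometry.IsReduced X' := Groth.Agent.S7421.result.2 X' fun x => by
      obtain ⟨U, hxU, hU⟩ := hX' x
      exact ⟨U, hxU, hU.1⟩
    have hiso : IsIso ν := h X' ν hν.1 hred
    exact (Groth.Agent.S7425.result ν hν (𝟙 X) (isUnivHomeo_id X) ν (Category.comp_id _)).1 hiso

end K345.AwnIff
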