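import Groth.Prelude.Def_HTop
import Groth.Agent.S0384
import Groth.Agent.Ega1.CDLift
import Mathlib.AlgebraicGeometry.Morphisms.Separated
import Mathlib.AlgebraicGeometry.Limits

/-!
# Local factorizations and the calculus of ph refinements

* `LocFacOn f E s`: locally on the source, at the points of `s`, `f` factors through a member of `E`.
* `IsPhRef g E`: after a proper surjective base change of the source, `g` factors locally through the members of `E`.
* `exists_proper_extension`: a proper surjective morphism to a quasi-compact open extends (Nagata compactification).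
* `IsPhRef.trans`: the local character of `IsPhRef`.
* `exists_isStandardPh_of_phRef`, `PhRef.of_isStandardPh`: comparison with standard ph coverings.
-/

set_option autoImplicit false
universe w w' w'' u

open CategoryTheory CategoryTheory.Limits AlgebraicGeometry HTop

namespace K345.PhRef

/-- Locally on the source, at the points of `s`, the morphism `f` factors through a member of `E`. -/
def LocFacOn {U T : Scheme.{u}} (f : U ⟶ T) (E : PreZeroHypercover.{w} T) (s : Set U) : Prop :=
  ∀ x ∈ s, ∃ (V : U.Opens) (i : E.I₀) (h : (V : Scheme.{u}) ⟶ E.X i), x ∈ V ∧ h ≫ E.f i = V.ι ≫ f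

theorem LocFacOn.mono {U T : Scheme.{u}} {f : U ⟶ T} {E : PreZeroHypercover.{w} T} {s t : Set U}
    (h : LocFacOn f E t) (hst : s ⊆ t) : LocFacOn f E s := fun x hx => h x (hst hx)

/-- Precomposition. -/
theorem LocFacOn.comp_left {U' U T : Scheme.{u}} (r : U' ⟶ U) {f : U ⟶ T}
    {E : PreZeroHypercover.{w} T} {s : Set U} (h : LocFacOn f E s) :
    LocFacOn (r ≫ f) E (r ⁻¹' s) := by
  intro x hx
  obtain ⟨V, i, k, hxV, hk⟩ := h (r x) hx
  refine ⟨r ⁻¹ᵁ V, i, (r ∣_ V) ≫ k, hxV, ?_⟩
  rw [Category.assoc, hk, morphismRestrict_ι_assoc]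

/-- Local factorization through a member, given by a morphism from the whole source. -/
theorem LocFacOn.of_fac {U T : Scheme.{u}} {f : U ⟶ T}
    {E : PreZeroHypercover.{w} T} (i : E.I₀) (h : U ⟶ E.X i) (hh : h ≫ E.f i = f) (s : Set U) :
    LocFacOn f E s := by
  intro x _
  exact ⟨⊤, i, (⊤ : U.Opens).ι ≫ h, trivial, by rw [Category.assoc, hh]⟩

/-- If `r : U' ⟶ U` is an open immersion one can check local factorization after restriction. -/
theorem LocFacOn.of_openImmersion {U' U T : Scheme.{u}} (r : U' ⟶ U) [IsOpenImmersion r] {f : U ⟶ T}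
    {E : PreZeroHypercover.{w} T} {s : Set U'} (h : LocFacOn (r ≫ f) E s) :
    LocFacOn f E (r '' s) := by
  rintro _ ⟨x, hx, rfl⟩
  obtain ⟨V, i, k, hxV, hk⟩ := h x hx
  refine ⟨r ''ᵁ V, i, (r.isoImage V).inv ≫ k, ⟨x, hxV, rfl⟩, ?_⟩
  rw [Category.assoc, hk, Iso.inv_comp_eq, Scheme.Hom.isoImage_hom_ι_assoc]

/-- Passing to a composite family. -/
theorem LocFacOn.postcomp {U T T' : Scheme.{u}} {f : U ⟶ T}
    {E : PreZeroHypercover.{w} T} {E' : PreZeroHypercover.{w'} T'} (g : T ⟶ T') {s : Set U}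
    (hE : ∀ i : E.I₀, ∃ (j : E'.I₀) (h : E.X i ⟶ E'.X j), h ≫ E'.f j = E.f i ≫ g)
    (h : LocFacOn f E s) : LocFacOn (f ≫ g) E' s := by
  intro x hx
  obtain ⟨V, i, k, hxV, hk⟩ := h x hx
  obtain ⟨j, l, hl⟩ := hE i
  exact ⟨V, j, k ≫ l, hxV, by rw [Category.assoc, hl, reassoc_of% hk]⟩

theorem LocFacOn.of_refinesOver {U T T' : Scheme.{u}} {f : U ⟶ T}
    {E : PreZeroHypercover.{w} T} {E' : PreZeroHypercover.{w'} T'} {g : T ⟶ T'} {s : Set U}
    (hE : RefinesOver g E E') (h : LocFacOn f E s) : LocFacOn (f ≫ g) E' s :=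
  h.postcomp g hE

/-- After a proper surjective base change of the source, `g` factors locally through members of `E`. -/
def IsPhRef {T T' : Scheme.{u}} (g : T ⟶ T') (E : PreZeroHypercover.{w} T') : Prop :=
  ∃ (U : Scheme.{u}) (f : U ⟶ T), IsProper f ∧ Surjective f ∧ LocFacOn (f ≫ g) E Set.univ

theorem IsPhRef.comp_left {T'' T T' : Scheme.{u}} (r : T'' ⟶ T) {g : T ⟶ T'}
    {E : PreZeroHypercover.{w} T'} (h : IsPhRef g E) : IsPhRef (r ≫ g) E := by
  obtain ⟨U, f, hf, hs, hU⟩ := h
  refine ⟨pullback r f, pullback.fst r f, inferInstance, inferInstance, ?_⟩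
  have : pullback.fst r f ≫ r ≫ g = pullback.snd r f ≫ f ≫ g := by
    rw [pullback.condition_assoc]
  rw [this]
  exact (hU.comp_left _).mono (by simp)

theorem IsPhRef.postcomp {T T' T'' : Scheme.{u}} {g : T ⟶ T'} (r : T' ⟶ T'')
    {E : PreZeroHypercover.{w} T'} {E' : PreZeroHypercover.{w'} T''}
    (hE : ∀ i : E.I₀, ∃ (j : E'.I₀) (h : E.X i ⟶ E'.X j), h ≫ E'.f j = E.f i ≫ r)
    (h : IsPhRef g E) : IsPhRef (g ≫ r) E' := by
  obtain ⟨U, f, hf, hs, hU⟩ := h
  exact ⟨U, f, hf, hs, by simpa using hU.postcomp r hE⟩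

theorem IsPhRef.of_locFacOn {T T' : Scheme.{u}} {g : T ⟶ T'} {E : PreZeroHypercover.{w} T'}
    (h : LocFacOn g E Set.univ) : IsPhRef g E :=
  ⟨T, 𝟙 T, inferInstance, inferInstance, by simpa using h⟩

/-- Extension of a proper surjective morphism from a quasi-compact open, with a local factorization over the
open. -/
theorem exists_proper_extension {U V Y : Scheme.{u}} [CompactSpace U] [QuasiSeparatedSpace U]
    (v : V ⟶ U) [IsOpenImmersion v] [QuasiCompact v] (y : Y ⟶ V) [IsProper y] [Surjective y] :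
    ∃ (W : Scheme.{u}) (q : W ⟶ U), IsProper q ∧ Surjective q ∧
      LocFacOn q (PreZeroHypercover.singleton.{0} (y ≫ v)) (q ⁻¹' Set.range v) := by
  obtain ⟨Yc, j, g, hj, hjq, hg, hjg⟩ := Groth.Agent.S0384.result (y ≫ v)
  -- the image of `j` is closed in the inverse image of `V`
  have hcl : closure (Set.range j) ∩ g ⁻¹' Set.range v ⊆ Set.range j := by
    let P := pullback g v
    let l : Y ⟶ P := pullback.lift j y hjg
    have hl : IsProper l := by
      have : IsProper (l ≫ pullback.snd g v) := by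
        simp only [l, pullback.lift_snd]; infer_instance
      exact IsProper.of_comp l (pullback.snd g v)
    have hlc : IsClosed (Set.range l) := l.isClosedMap.isClosed_range
    rintro x ⟨hx, hxv⟩
    have hr : Set.range (pullback.fst g v) = g ⁻¹' Set.range v := by
      rw [IsOpenImmersion.range_pullbackFst]
      rfl
    rw [← hr] at hxv
    obtain ⟨p, rfl⟩ := hxv
    have hopen : Topology.IsOpenEmbedding (pullback.fst g v) := (pullback.fst g v).isOpenEmbedding
    have hjr : Set.range j = pullback.fst g v '' Set.range l := by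
      rw [← Set.range_comp]
      congr 1
      ext z
      simp only [Function.comp]
      rw [← Scheme.Hom.comp_apply, pullback.lift_fst]
    have hp : p ∈ closure (Set.range l) := by
      have := hopen.isOpenMap.preimage_closure_eq_closure_preimage hopen.continuous (Set.range j)
      have h2 : p ∈ pullback.fst g v ⁻¹' closure (Set.range j) := hx
      rw [this, hjr, Set.preimage_image_eq _ hopen.injective] at h2
      exact h2
    rw [hlc.closure_eq] at hp
    rw [hjr]
    exact ⟨p, hp, rfl⟩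
  let Z : TopologicalSpace.Closeds Yc := ⟨closure (Set.range j), isClosed_closure⟩
  let iZ := (Scheme.IdealSheafData.vanishingIdeal Z).subschemeι
  have hiZ : Set.range iZ = closure (Set.range j) := by
    rw [Scheme.IdealSheafData.range_subschemeι]
    rfl
  let C : TopologicalSpace.Closeds U := ⟨(Set.range v)ᶜ, v.isOpenEmbedding.isOpen_range.isClosed_compl⟩
  let iC := (Scheme.IdealSheafData.vanishingIdeal C).subschemeι
  have hiC : Set.range iC = (Set.range v)ᶜ := by
    rw [Scheme.IdealSheafData.range_subschemeι]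
    rfl
  let q : (Scheme.IdealSheafData.vanishingIdeal Z).subscheme ⨿
      (Scheme.IdealSheafData.vanishingIdeal C).subscheme ⟶ U := coprod.desc (iZ ≫ g) iC
  have hqi : coprod.inl ≫ q = iZ ≫ g := coprod.inl_desc _ _
  have hqr : coprod.inr ≫ q = iC := coprod.inr_desc _ _
  refine ⟨_, q, Groth.Agent.Ega1.CDLift.isProper_coprodDesc _ _, ⟨fun u => ?_⟩, ?_⟩
  · by_cases hu : u ∈ Set.range v
    · obtain ⟨t, rfl⟩ := hu
      obtain ⟨t, rfl⟩ := y.surjective t
      have h1 : j t ∈ Set.range iZ := by rw [hiZ]; exact subset_closure ⟨t, rfl⟩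
      obtain ⟨z, hz⟩ := h1
      refine ⟨(coprod.inl : _ ⟶ _ ⨿ (Scheme.IdealSheafData.vanishingIdeal C).subscheme) z, ?_⟩
      rw [← Scheme.Hom.comp_apply, hqi, Scheme.Hom.comp_apply, hz, ← Scheme.Hom.comp_apply, hjg,
        Scheme.Hom.comp_apply]
    · have h1 : u ∈ Set.range iC := by rw [hiC]; exact hu
      obtain ⟨z, hz⟩ := h1
      refine ⟨(coprod.inr : _ ⟶ (Scheme.IdealSheafData.vanishingIdeal Z).subscheme ⨿ _) z, ?_⟩
      rw [← Scheme.Hom.comp_apply, hqr, hz]
  · -- local factorization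
    have h1 : LocFacOn (iZ ≫ g) (PreZeroHypercover.singleton.{0} (y ≫ v)) (iZ ⁻¹' Set.range j) := by
      apply LocFacOn.comp_left
      rw [← Set.image_univ]
      apply LocFacOn.of_openImmersion
      exact LocFacOn.of_fac (E := PreZeroHypercover.singleton.{0} (y ≫ v)) PUnit.unit (𝟙 Y)
        (by rw [hjg]; exact Category.id_comp _) _
    rw [← hqi] at h1
    refine h1.of_openImmersion.mono ?_
    intro x hx
    obtain ⟨(z | z), rfl⟩ := (coprodMk _ _).surjective x
    · rw [coprodMk_inl] at hx ⊢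
      refine ⟨z, ?_, rfl⟩
      have h2 : g (iZ z) ∈ Set.range v := by
        rw [← Scheme.Hom.comp_apply, ← hqi, Scheme.Hom.comp_apply]; exact hx
      exact hcl ⟨by rw [← hiZ]; exact ⟨z, rfl⟩, h2⟩
    · rw [coprodMk_inr] at hx
      exfalso
      have h2 : iC z ∈ Set.range v := by
        rw [← hqr, Scheme.Hom.comp_apply]; exact hx
      have h3 : iC z ∈ (Set.range v)ᶜ := by rw [← hiC]; exact ⟨z, rfl⟩
      exact h3 h2

/-- Simultaneous extension of finitely many proper surjective morphisms to quasi-compact opens. -/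
theorem exists_proper_extension_finite {ι : Type w} [Finite ι] {U : Scheme.{u}} [CompactSpace U]
    [QuasiSeparatedSpace U] (V Y : ι → Scheme.{u}) (v : ∀ a, V a ⟶ U) [∀ a, IsOpenImmersion (v a)]
    [∀ a, QuasiCompact (v a)] (y : ∀ a, Y a ⟶ V a) [∀ a, IsProper (y a)] [∀ a, Surjective (y a)] :
    ∃ (W : Scheme.{u}) (q : W ⟶ U), IsProper q ∧ Surjective q ∧
      ∀ a, LocFacOn q (PreZeroHypercover.singleton.{0} (y a ≫ v a)) (q ⁻¹' Set.range (v a)) := by
  classical
  have := Fintype.ofFinite ι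
  suffices H : ∀ s : Finset ι, ∃ (W : Scheme.{u}) (q : W ⟶ U), IsProper q ∧ Surjective q ∧
      ∀ a ∈ s, LocFacOn q (PreZeroHypercover.singleton.{0} (y a ≫ v a)) (q ⁻¹' Set.range (v a)) by
    obtain ⟨W, q, h1, h2, h3⟩ := H Finset.univ
    exact ⟨W, q, h1, h2, fun a => h3 a (Finset.mem_univ a)⟩
  intro s
  induction s using Finset.induction_on with
  | empty => exact ⟨U, 𝟙 U, inferInstance, inferInstance, by simp⟩
  | insert a s ha ih =>
    obtain ⟨W, q, h1, h2, h3⟩ := ih
    obtain ⟨W', q', h1', h2', h3'⟩ := exists_proper_extension (v a) (y a)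
    refine ⟨pullback q q', pullback.fst q q' ≫ q, inferInstance, inferInstance, ?_⟩
    intro b hb
    rcases Finset.mem_insert.1 hb with rfl | hb
    · rw [pullback.condition]
      refine (h3'.comp_left (pullback.snd q q')).mono ?_
      intro x hx
      exact hx
    · exact ((h3 b hb).comp_left (pullback.fst q q')).mono (fun x hx => hx)


/-- Local character of `IsPhRef`. -/
theorem exists_locFac_trans {U T : Scheme.{u}} [CompactSpace U] [QuasiSeparatedSpace U] (f : U ⟶ T)
    {G : PreZeroHypercover.{w} T} {E : PreZeroHypercover.{w'} T} (hf : LocFacOn f G Set.univ)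
    (hG : ∀ i, IsPhRef (G.f i) E) :
    ∃ (W : Scheme.{u}) (q : W ⟶ U), IsProper q ∧ Surjective q ∧ LocFacOn (q ≫ f) E Set.univ := by
  -- affine opens with factorizations
  have h1 : ∀ x : U, ∃ (V : U.Opens) (i : G.I₀) (h : (V : Scheme.{u}) ⟶ G.X i), IsAffineOpen V ∧ x ∈ V ∧
      h ≫ G.f i = V.ι ≫ f := by
    intro x
    obtain ⟨V, i, h, hx, hh⟩ := hf x trivial
    obtain ⟨_, ⟨V', hV', rfl⟩, hxV', hle⟩ :=
      U.isBasis_affineOpens.exists_subset_of_mem_open (show x ∈ (V : Set U) from hx) V.2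
    exact ⟨V', i, U.homOfLE hle ≫ h, hV', hxV', by rw [Category.assoc, hh, Scheme.homOfLE_ι_assoc]⟩
  choose V i h hV hxV hh using h1
  obtain ⟨t, ht⟩ := CompactSpace.elim_nhds_subcover (fun x => (V x : Set U))
    (fun x => (V x).2.mem_nhds (hxV x))
  choose P p hp hps hpf using hG
  let Y : t → Scheme.{u} := fun a => pullback (h a.1) (p (i a.1))
  let y : ∀ a : t, Y a ⟶ (V a.1 : Scheme.{u}) := fun a => pullback.fst (h a.1) (p (i a.1))
  have hy : ∀ a, IsProper (y a) := fun a => inferInstance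
  have hys : ∀ a, Surjective (y a) := fun a => inferInstance
  have hqc : ∀ a : t, QuasiCompact (V a.1).ι := fun a => by
    have : CompactSpace (V a.1 : Scheme.{u}) := isCompact_iff_compactSpace.mp (hV a.1).isCompact
    exact quasiCompact_of_compactSpace _
  obtain ⟨W, q, hq, hqs, hW⟩ := exists_proper_extension_finite (U := U) (fun a : t => (V a.1 : Scheme.{u}))
    Y (fun a => (V a.1).ι) y
  refine ⟨W, q, hq, hqs, fun x _ => ?_⟩
  have hx : q x ∈ ⋃ a ∈ t, (V a : Set U) := by rw [ht]; trivial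
  simp only [Set.mem_iUnion] at hx
  obtain ⟨a, ha, hxa⟩ := hx
  obtain ⟨W', j, k, hxW', hk⟩ := hW ⟨a, ha⟩ x (by
    change q x ∈ Set.range (V a).ι
    simpa using hxa)
  change (W' : Scheme.{u}) ⟶ pullback (h a) (p (i a)) at k
  change k ≫ (pullback.fst (h a) (p (i a)) ≫ (V a).ι) = W'.ι ≫ q at hk
  have h2 : LocFacOn (W'.ι ≫ q ≫ f) E Set.univ := by
    have h3 := (hpf (i a)).comp_left (k ≫ pullback.snd (h a) (p (i a)))
    have h4 : (k ≫ pullback.snd (h a) (p (i a))) ≫ p (i a) ≫ G.f (i a) = W'.ι ≫ q ≫ f := by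
      rw [← reassoc_of% hk, ← hh a, Category.assoc, ← pullback.condition_assoc]
    rw [h4] at h3
    exact h3.mono (by simp)
  exact LocFacOn.of_openImmersion W'.ι h2 x ⟨⟨x, hxW'⟩, trivial, rfl⟩

/-- Transitivity: if `g : T ⟶ T'` becomes, after a proper surjective base change, locally a composite through
members of `G` each of which is `IsPhRef` for `E`, then `g` is `IsPhRef` for `E`. -/
theorem IsPhRef.trans {T T' : Scheme.{u}} [CompactSpace T] [QuasiSeparatedSpace T] {g : T ⟶ T'}
    {G : PreZeroHypercover.{w} T'} {E : PreZeroHypercover.{w'} T'} (hg : IsPhRef g G)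
    (hG : ∀ i, IsPhRef (G.f i) E) : IsPhRef g E := by
  obtain ⟨U, f, hf, hfs, hU⟩ := hg
  have : CompactSpace U := QuasiCompact.compactSpace_of_compactSpace f
  have : QuasiSeparatedSpace U := quasiSeparatedSpace_of_quasiSeparated f
  obtain ⟨W, q, hq, hqs, hW⟩ := exists_locFac_trans (f ≫ g) hU hG
  exact ⟨W, q ≫ f, inferInstance, inferInstance, by simpa using hW⟩

end K345.PhRef
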