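import Groth.Prelude.Def_HTop
import Groth.Agent.HTop.K345.PhStd
import Groth.Agent.HTop.K345.Fpqc
import Groth.Agent.HTop.K346.VStable
import Mathlib.AlgebraicGeometry.Sites.BigZariski
import Mathlib.CategoryTheory.Sites.Canonical
import Mathlib.CategoryTheory.Sites.Hypercover.SheafOfTypes

/-!
# Grothendieck topologies containing the Zariski topology and V, ph covering sieves

* `mem_of_affine`: a sieve is covering if its restrictions to affine opens are.
* `mem_finest_of_affine`: for a Zariski sheaf, membership in the finest topology can be tested on affine schemes.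
* `mem_of_isPhRef`, `mem_of_isPhCover`, `mem_of_isVCover`.
-/

set_option autoImplicit false
universe w w' w'' u

open CategoryTheory CategoryTheory.Limits AlgebraicGeometry HTop

namespace K345.SheafTop

open K345.PhRef

variable {J : GrothendieckTopology Scheme.{u}}

theorem presieve₀_singleton {T V : Scheme.{u}} (f : V ⟶ T) :
    (PreZeroHypercover.singleton.{w'} f).presieve₀ = Presieve.singleton f :=
  PreZeroHypercover.presieve₀_singleton f

theorem sieve₀_singleton {T V : Scheme.{u}} (f : V ⟶ T) :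
    (PreZeroHypercover.singleton.{w'} f).sieve₀ = Sieve.generate (Presieve.singleton f) :=
  congrArg Sieve.generate (PreZeroHypercover.presieve₀_singleton f)

theorem mem_of_ofArrows {T : Scheme.{u}} {E : PreZeroHypercover.{w} T} (hE : E.sieve₀ ∈ J T) {S : Sieve T}
    (h : ∀ i, S.pullback (E.f i) ∈ J (E.X i)) : S ∈ J T := by
  refine J.transitive hE S fun Y f hf => ?_
  obtain ⟨Z, g, _, ⟨i⟩, rfl⟩ := hf
  rw [Sieve.pullback_comp]
  exact J.pullback_stable g (h i)

theorem mem_of_affine (hJ : Scheme.zariskiTopology ≤ J) {T : Scheme.{u}} {S : Sieve T}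
    (h : ∀ U : T.affineOpens, S.pullback (U : T.Opens).ι ∈ J ((U : T.Opens) : Scheme.{u})) : S ∈ J T := by
  refine mem_of_ofArrows (E := T.affineCover.toPreZeroHypercover)
    (hJ _ (Scheme.Cover.mem_grothendieckTopology _)) fun i => ?_
  let U : T.Opens := (T.affineCover.f i).opensRange
  have hU : U ∈ T.affineOpens := isAffineOpen_opensRange _
  have h1 : T.affineCover.f i = (T.affineCover.f i).isoOpensRange.hom ≫ U.ι := by
    simp [U]
  rw [h1, Sieve.pullback_comp]
  exact J.pullback_stable _ (h ⟨U, hU⟩)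

/-- Membership from local factorization. -/
theorem mem_of_locFacOn (hJ : Scheme.zariskiTopology ≤ J) {U T : Scheme.{u}} {f : U ⟶ T}
    {E : PreZeroHypercover.{w} T} (h : LocFacOn f E Set.univ) : E.sieve₀.pullback f ∈ J U := by
  choose V i k hxV hk using fun x : U => h x trivial
  let 𝒰 : U.OpenCover := U.openCoverOfIsOpenCover V (.mk (eq_top_iff.2 fun x _ =>
    TopologicalSpace.Opens.mem_iSup.2 ⟨x, hxV x⟩))
  refine J.superset_covering ?_ (hJ _ (𝒰.mem_grothendieckTopology))
  rintro Y g ⟨Z, a, b, ⟨x⟩, rfl⟩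
  change ↥U at x
  change _ ⟶ (V x : Scheme.{u}) at a
  refine ⟨_, a ≫ k x, _, ⟨i x⟩, ?_⟩
  change (a ≫ k x) ≫ E.f (i x) = (a ≫ (V x).ι) ≫ f
  rw [Category.assoc, hk x, Category.assoc]

theorem mem_of_isPhRef (hJ : Scheme.zariskiTopology ≤ J)
    (hp : ∀ (U V : Scheme.{u}) (f : V ⟶ U), IsProper f → Surjective f →
      Sieve.generate (Presieve.singleton f) ∈ J U)
    {T T' : Scheme.{u}} {g : T ⟶ T'} {E : PreZeroHypercover.{w} T'} (h : IsPhRef g E) :
    E.sieve₀.pullback g ∈ J T := by
  obtain ⟨U, f, hf, hfs, hU⟩ := h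
  refine J.transitive (hp _ _ f hf hfs) _ fun Y a ha => ?_
  obtain ⟨Z, b, _, ⟨⟩, rfl⟩ := ha
  have h2 := mem_of_locFacOn hJ hU
  rw [Sieve.pullback_comp] at h2 ⊢
  exact J.pullback_stable _ h2

theorem mem_of_isPhCover (hJ : Scheme.zariskiTopology ≤ J)
    (hp : ∀ (U V : Scheme.{u}) (f : V ⟶ U), IsProper f → Surjective f →
      Sieve.generate (Presieve.singleton f) ∈ J U)
    {T : Scheme.{u}} {E : PreZeroHypercover.{w} T} (h : IsPhCover E) : E.sieve₀ ∈ J T := by
  rw [K345.PhStd.isPhCover_iff] at h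
  exact mem_of_affine hJ fun U => mem_of_isPhRef hJ hp (h.2 U)

theorem mem_of_refinesOver {T U : Scheme.{u}} {g : U ⟶ T} {F : PreZeroHypercover.{w'} U}
    {E : PreZeroHypercover.{w} T} (h : RefinesOver g F E) (hF : F.sieve₀ ∈ J U) :
    E.sieve₀.pullback g ∈ J U := by
  refine J.superset_covering ?_ hF
  rintro Y a ⟨Z, b, _, ⟨j⟩, rfl⟩
  obtain ⟨i, k, hk⟩ := h j
  exact ⟨_, b ≫ k, _, ⟨i⟩, by rw [Category.assoc, hk, Category.assoc]⟩

theorem mem_of_isVCover (hJ : Scheme.zariskiTopology ≤ J)
    (hV : ∀ (T : Scheme.{u}) (E : PreZeroHypercover.{0} T), IsStandardV E → E.sieve₀ ∈ J T)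
    {T : Scheme.{u}} {E : PreZeroHypercover.{w} T} (h : IsVCover E) : E.sieve₀ ∈ J T := by
  refine mem_of_affine hJ fun U => ?_
  obtain ⟨F, hF, hr⟩ := h U
  exact mem_of_refinesOver hr (hV _ F hF)

variable {F : Scheme.{u}ᵒᵖ ⥤ Type w}

theorem zariski_le_finest (hF : Presieve.IsSheaf Scheme.zariskiTopology F) :
    Scheme.zariskiTopology ≤ Sheaf.finestTopologySingle F :=
  fun _ _ hS _ f => hF _ (Scheme.zariskiTopology.pullback_stable f hS)

theorem isSheafFor_of_mem_finest {T : Scheme.{u}} {R : Presieve T}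
    (h : Sieve.generate R ∈ Sheaf.finestTopologySingle F T) : Presieve.IsSheafFor F R := by
  rw [Presieve.isSheafFor_iff_generate]
  simpa using h _ (𝟙 T)

/-- For a Zariski sheaf, membership in the finest topology can be tested on affine schemes. -/
theorem mem_finest_of_affine (hF : Presieve.IsSheaf Scheme.zariskiTopology F) {T : Scheme.{u}} {S : Sieve T}
    (h : ∀ (Y : Scheme.{u}) [IsAffine Y] (f : Y ⟶ T), Presieve.IsSheafFor F (S.pullback f).arrows) :
    S ∈ Sheaf.finestTopologySingle F T := by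
  intro Y f
  refine Y.affineOneHypercover.isSheafFor_sieve_of_pullback hF ?_ ?_
  · intro i
    have : IsAffine (Y.affineOneHypercover.X i) := inferInstanceAs (IsAffine (Y.affineCover.X i))
    rw [← Sieve.pullback_comp]
    exact h _ _
  · intro i j k
    have : IsAffine (Y.affineOneHypercover.Y k) :=
      inferInstanceAs (IsAffine ((pullback (Y.affineCover.f i) (Y.affineCover.f j)).affineCover.X k))
    rw [← Sieve.pullback_comp]
    exact (h _ _).isSeparatedFor

/-- The sieve generated by the base change of a family. -/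
theorem sieve₀_pullback₁ {T T' : Scheme.{u}} (g : T' ⟶ T) (E : PreZeroHypercover.{w} T) :
    (E.pullback₁ g).sieve₀ = E.sieve₀.pullback g := by
  ext Y a
  constructor
  · rintro ⟨Z, b, _, ⟨i⟩, rfl⟩
    change E.I₀ at i
    change _ ⟶ pullback g (E.f i) at b
    refine ⟨_, b ≫ pullback.snd g (E.f i), _, ⟨i⟩, ?_⟩
    change (b ≫ pullback.snd g (E.f i)) ≫ E.f i = (b ≫ pullback.fst g (E.f i)) ≫ g
    rw [Category.assoc, Category.assoc, pullback.condition]
  · rintro ⟨Z, b, _, ⟨i⟩, h⟩
    exact ⟨_, pullback.lift a b h.symm, _, ⟨i⟩, pullback.lift_fst _ _ _⟩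

theorem sieve₀_mem_finest_of_affine (hF : Presieve.IsSheaf Scheme.zariskiTopology F) {T : Scheme.{u}}
    {E : PreZeroHypercover.{w'} T}
    (h : ∀ (Y : Scheme.{u}) [IsAffine Y] (f : Y ⟶ T), Presieve.IsSheafFor F (E.pullback₁ f).presieve₀) :
    E.sieve₀ ∈ Sheaf.finestTopologySingle F T := by
  refine mem_finest_of_affine hF fun Y _ f => ?_
  rw [← sieve₀_pullback₁]
  exact (Presieve.isSheafFor_iff_generate _).1 (h Y f)

/-- Reindexing preserves standard V coverings. -/
theorem isStandardV_reindex {T : Scheme.{u}} {E : PreZeroHypercover.{w} T} (hE : IsStandardV E) {ι : Type w'}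
    (e : ι ≃ E.I₀) : IsStandardV (E.reindex e) := by
  have := hE.finite_index
  refine ⟨hE.isAffine, Finite.of_equiv _ e.symm, fun j => hE.isAffine_obj (e j), ?_⟩
  intro V _ _ g
  obtain ⟨W, _, _, φ, hφ, j, g', hg'⟩ := hE.lift V g
  obtain ⟨j, rfl⟩ := e.surjective j
  exact ⟨W, inferInstance, inferInstance, φ, hφ, j, g', hg'⟩

theorem isSheafFor_of_isStandardV
    (h : ∀ (T : Scheme.{u}) (E : PreZeroHypercover.{u} T), IsStandardV E → Presieve.IsSheafFor F E.presieve₀)
    {T : Scheme.{u}} {E : PreZeroHypercover.{w'} T} (hE : IsStandardV E) :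
    Presieve.IsSheafFor F E.presieve₀ := by
  have := hE.finite_index
  obtain ⟨n, ⟨e⟩⟩ := Finite.exists_equiv_fin E.I₀
  let e' : ULift.{u} (Fin n) ≃ E.I₀ := Equiv.ulift.trans e.symm
  rw [← PreZeroHypercover.presieve₀_reindex E e']
  exact h _ _ (isStandardV_reindex hE e')

theorem isStandardV_pullback₁ {T T' : Scheme.{u}} [IsAffine T'] (g : T' ⟶ T) (E : PreZeroHypercover.{w} T)
    (hE : IsStandardV E) : IsStandardV (E.pullback₁ g) := by
  have := hE.isAffine
  have := hE.finite_index
  have hX : ∀ j, IsAffine (E.X j) := hE.isAffine_obj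
  exact ⟨inferInstance, inferInstanceAs (Finite E.I₀), fun j => inferInstanceAs (IsAffine (pullback g (E.f j))),
    K346.ValLift.HasValLift.pullback₁ g hE.lift⟩

theorem isStandardV_sigmaDesc {T : Scheme.{u}} (E : PreZeroHypercover.{u} T) (hE : IsStandardV E) :
    IsStandardV (PreZeroHypercover.singleton.{w} (Sigma.desc E.f)) := by
  have := hE.finite_index
  have hX : ∀ j, IsAffine (E.X j) := hE.isAffine_obj
  refine ⟨hE.isAffine, inferInstanceAs (Finite PUnit), fun _ => inferInstanceAs (IsAffine (∐ E.X)), ?_⟩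
  intro V _ _ g
  obtain ⟨W, _, _, φ, hφ, j, g', hg'⟩ := hE.lift V g
  refine ⟨W, inferInstance, inferInstance, φ, hφ, PUnit.unit, g' ≫ Sigma.ι E.X j, ?_⟩
  change (g' ≫ Sigma.ι E.X j) ≫ Sigma.desc E.f = _
  rw [Category.assoc, Sigma.ι_desc, hg']

theorem isVCover_of_isStandardV {T : Scheme.{u}} {E : PreZeroHypercover.{w} T} (hE : IsStandardV E) :
    IsVCover E := by
  have := hE.isAffine
  have := hE.finite_index
  have hX : ∀ j, IsAffine (E.X j) := hE.isAffine_obj
  exact K346.VCover.isVCover_of_hasValLift E (fun j => inferInstance) hE.lift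

theorem zariskiPrecoverage_le_vPrecoverage : Scheme.zariskiPrecoverage.{u} ≤ vPrecoverage.{u} := by
  intro X R hR
  have h1 := Scheme.zariskiPrecoverage_le_fpqcPrecoverage X hR
  obtain ⟨E, rfl⟩ := R.exists_eq_preZeroHypercover
  obtain ⟨h2, h3⟩ := (K345.Fpqc.mem_fpqc_iff E).1 h1
  rw [presieve₀_mem_vPrecoverage_iff]
  exact K345.Fpqc.isVCover_of_flat_of_qc E h2

theorem isSheaf_zariski_of_isVSheaf (hF : IsVSheaf F) : Presieve.IsSheaf Scheme.zariskiTopology F := by
  rw [Scheme.zariskiTopology, Precoverage.isSheaf_toGrothendieck_iff_of_isStableUnderBaseChange]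
  exact fun X R hR => hF R (zariskiPrecoverage_le_vPrecoverage X hR)

theorem isVSheaf_iff : IsVSheaf F ↔ (Presieve.IsSheaf Scheme.zariskiTopology F ∧
    ∀ (T : Scheme.{u}) (E : PreZeroHypercover.{u} T), IsStandardV E → Presieve.IsSheafFor F E.presieve₀) := by
  constructor
  · intro hF
    refine ⟨isSheaf_zariski_of_isVSheaf hF, fun T E hE => hF _ ?_⟩
    rw [presieve₀_mem_vPrecoverage_iff]
    exact isVCover_of_isStandardV hE
  · rintro ⟨h1, h2⟩ X R hR
    obtain ⟨E, rfl⟩ := R.exists_eq_preZeroHypercover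
    rw [presieve₀_mem_vPrecoverage_iff] at hR
    apply isSheafFor_of_mem_finest
    refine mem_of_isVCover (zariski_le_finest h1) (fun T E hE => ?_) hR
    exact sieve₀_mem_finest_of_affine h1 fun Y _ f =>
      isSheafFor_of_isStandardV h2 (isStandardV_pullback₁ f E hE)

theorem isVSheaf_iff_singleton : IsVSheaf F ↔ (Presieve.IsSheaf Scheme.zariskiTopology F ∧
    ∀ (U V : Scheme.{u}) (f : V ⟶ U), IsStandardV (PreZeroHypercover.singleton.{w'} f) →
      Presieve.IsSheafFor F (Presieve.singleton f)) := by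
  constructor
  · intro hF
    refine ⟨isSheaf_zariski_of_isVSheaf hF, fun U V f hf => hF _ ?_⟩
    have h3 := (presieve₀_mem_vPrecoverage_iff _).2 (isVCover_of_isStandardV hf)
    rw [presieve₀_singleton] at h3
    exact h3
  · rintro ⟨h1, h2⟩
    rw [isVSheaf_iff]
    refine ⟨h1, fun T E hE => ?_⟩
    apply isSheafFor_of_mem_finest
    have h3 : (PreZeroHypercover.singleton.{w'} (Sigma.desc E.f)).sieve₀ ∈ Sheaf.finestTopologySingle F T := by
      refine sieve₀_mem_finest_of_affine h1 fun Y _ f => ?_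
      have h4 := isStandardV_pullback₁ f _ (isStandardV_sigmaDesc.{w'} E hE)
      have h5 : IsStandardV (PreZeroHypercover.singleton.{w'} (pullback.fst f (Sigma.desc E.f))) := h4
      have h6 := h2 _ _ _ h5
      rw [← presieve₀_singleton.{w'}] at h6
      exact h6
    refine mem_of_ofArrows h3 fun _ => ?_
    refine Sheaf.finestTopologySingle F |>.superset_covering ?_
      (zariski_le_finest h1 _ (sigmaOpenCover E.X).mem_grothendieckTopology)
    rintro Y a ⟨Z, b, _, ⟨i⟩, rfl⟩
    change E.I₀ at i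
    change _ ⟶ E.X i at b
    refine ⟨_, b, _, ⟨i⟩, ?_⟩
    change b ≫ E.f i = (b ≫ Sigma.ι E.X i) ≫ Sigma.desc E.f
    rw [Category.assoc, Sigma.ι_desc]

theorem generate_singleton_mem_finest
    (h₂ : ∀ (U V : Scheme.{u}) (f : V ⟶ U), IsProper f → Surjective f →
      Presieve.IsSheafFor F (Presieve.singleton f)) (U V : Scheme.{u}) (f : V ⟶ U) (hf : IsProper f)
    (hfs : Surjective f) : Sieve.generate (Presieve.singleton f) ∈ Sheaf.finestTopologySingle F U := by
  intro Y g
  have h3 : (Sieve.generate (Presieve.singleton f)).pullback g =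
      Sieve.generate (Presieve.singleton (pullback.fst g f)) := by
    have h4 := sieve₀_pullback₁ g (PreZeroHypercover.singleton.{0} f)
    have h6 : ((PreZeroHypercover.singleton.{0} f).pullback₁ g).sieve₀ =
        Sieve.generate (Presieve.singleton (pullback.fst g f)) :=
      sieve₀_singleton.{0} (pullback.fst g f)
    rw [← sieve₀_singleton.{0} f, ← h4, h6]
  rw [h3, ← Presieve.isSheafFor_iff_generate]
  exact h₂ _ _ _ inferInstance inferInstance

theorem isPhSheaf_of (h₁ : Presieve.IsSheaf Scheme.zariskiTopology F)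
    (h₂ : ∀ (U V : Scheme.{u}) (f : V ⟶ U), IsProper f → Surjective f →
      Presieve.IsSheafFor F (Presieve.singleton f)) : IsPhSheaf F := by
  intro X R hR
  obtain ⟨E, rfl⟩ := R.exists_eq_preZeroHypercover
  rw [presieve₀_mem_phPrecoverage_iff] at hR
  apply isSheafFor_of_mem_finest
  exact mem_of_isPhCover (zariski_le_finest h₁) (generate_singleton_mem_finest h₂) hR

end K345.SheafTop
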