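import Groth.Prelude.Def_HTop
import Groth.Prelude.Def_SGA1
import Groth.Agent.HTop.K346.VStable
import Groth.Agent.HTop.K346.VCover

/-!
# V coverings: specializations, closed sets, universal submersiveness
-/

set_option autoImplicit false
universe w w' w'' u

open CategoryTheory CategoryTheory.Limits AlgebraicGeometry HTop

namespace K345.VTop

open K346.ValLift

open IsLocalRing in
/-- A specialization is realized by the spectrum of a valuation ring. -/
theorem exists_val_of_specializes {Y : Scheme.{u}} {y x : Y} (h : y ⤳ x) :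
    ∃ (W : CommRingCat.{u}) (_ : IsDomain W) (_ : ValuationRing W) (g' : Spec W ⟶ Y),
      g' (cl W) = x ∧ g' (gen W) = y := by
  let σ : Y.presheaf.stalk x ⟶ Y.residueField y :=
    Y.presheaf.stalkSpecializes h ≫ Y.residue y
  obtain ⟨A, hA, hA_local⟩ := exists_factor_valuationRing σ.hom
  let W : CommRingCat.{u} := .of A
  let τ : Y.presheaf.stalk x ⟶ W := CommRingCat.ofHom (σ.hom.codRestrict _ hA)
  have hτ : IsLocalHom τ.hom := hA_local
  let ι : W ⟶ Y.residueField y := CommRingCat.ofHom (algebraMap A (Y.residueField y))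
  have hι : Function.Injective ι.hom := Subtype.val_injective
  let g' : Spec W ⟶ Y := Spec.map τ ≫ Y.fromSpecStalk x
  have hfac : Y.fromSpecResidueField y = Spec.map ι ≫ g' := by
    rw [Scheme.fromSpecResidueField, ← Scheme.SpecMap_stalkSpecializes_fromSpecStalk h]
    simp_rw [g', ← Category.assoc, ← Spec.map_comp]
    rfl
  have hcl : g' (cl W) = x := by
    rw [Scheme.Hom.comp_apply, (map_cl_iff τ).2 hτ]
    exact Scheme.fromSpecStalk_closedPoint
  have hgen : g' (gen W) = y := by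
    rw [← (map_gen_iff ι).2 hι, ← Scheme.Hom.comp_apply, ← hfac]
    exact Scheme.fromSpecResidueField_apply y _
  exact ⟨W, inferInstanceAs (IsDomain A), inferInstanceAs (ValuationRing A), g', hcl, hgen⟩

/-- Lifting of specializations along a family with the valuation ring lifting property. -/
theorem exists_lift_specializes {T : Scheme.{u}} {E : PreZeroHypercover.{w} T} (hE : HasValLift E) {y x : T}
    (h : y ⤳ x) : ∃ (i : E.I₀) (y' x' : E.X i), y' ⤳ x' ∧ E.f i y' = y ∧ E.f i x' = x := by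
  obtain ⟨V, _, _, g, hx, hy⟩ := exists_val_of_specializes h
  obtain ⟨W, _, _, φ, hφ, j, g', hg'⟩ := hE V g
  rw [isExtVal_iff] at hφ
  refine ⟨j, g' (gen W), g' (cl W), (gen_specializes W _).map g'.continuous, ?_, ?_⟩
  · rw [← Scheme.Hom.comp_apply, hg', Scheme.Hom.comp_apply, hφ.1, hy]
  · rw [← Scheme.Hom.comp_apply, hg', Scheme.Hom.comp_apply, hφ.2, hx]

theorem hasValLift_singleton_iff {X Y : Scheme.{u}} (f : X ⟶ Y) :
    HasValLift (PreZeroHypercover.singleton.{w} f) ↔
      ∀ (Z : Scheme.{u}) (g : Z ⟶ Y) (z' z : Z), z' ⤳ z →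
        ∃ w' w : ↑(pullback g f), w' ⤳ w ∧ pullback.fst g f w' = z' ∧ pullback.fst g f w = z := by
  constructor
  · intro h Z g z' z hz
    obtain ⟨i, y', x', h1, h2, h3⟩ := exists_lift_specializes (HasValLift.pullback₁ g h) hz
    exact ⟨y', x', h1, h2, h3⟩
  · intro h V _ _ g
    obtain ⟨w', w, h1, h2, h3⟩ := h (Spec V) g (gen V) (cl V) (gen_specializes V _)
    exact exists_lift_of_specializes (PreZeroHypercover.singleton.{w} f) V g PUnit.unit h1 h2 h3

/-- The range of a quasi-compact morphism is closed if it is stable under specialization. -/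
theorem isClosed_range_of_affine {X Y : Scheme.{u}} [IsAffine Y] (f : X ⟶ Y) [CompactSpace X]
    (h : StableUnderSpecialization (Set.range f)) : IsClosed (Set.range f) := by
  wlog hY : ∃ R, Y = Spec R
  · have h1 : Set.range (f ≫ Y.isoSpec.hom) = Y.isoSpec.inv ⁻¹' (Set.range f) := by
      ext x
      constructor
      · rintro ⟨y, rfl⟩
        exact ⟨y, by rw [← Scheme.Hom.comp_apply, Category.assoc, Iso.hom_inv_id, Category.comp_id]⟩
      · rintro ⟨y, hy⟩
        exact ⟨y, by rw [Scheme.Hom.comp_apply, hy, ← Scheme.Hom.comp_apply, Iso.inv_hom_id]; rfl⟩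
    have h2 := this (f ≫ Y.isoSpec.hom) (by
      rw [h1]; exact h.preimage Y.isoSpec.inv.continuous) ⟨_, rfl⟩
    rw [h1] at h2
    have h3 := h2.preimage Y.isoSpec.hom.continuous
    convert! h3 using 1
    ext x
    simp only [Set.mem_preimage]
    rw [← Scheme.Hom.comp_apply, Iso.hom_inv_id]
    rfl
  obtain ⟨R, rfl⟩ := hY
  obtain ⟨S, g, hg⟩ := (compactSpace_iff_exists (X := X)).mp inferInstance
  have h4 : Set.range (g ≫ f) = Set.range f := by
    rw [Scheme.Hom.comp_base, TopCat.coe_comp, Set.range_comp, hg.range_eq, Set.image_univ]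
  rw [← h4] at h ⊢
  obtain ⟨φ, hφ⟩ := Spec.homEquiv.symm.surjective (g ≫ f)
  rw [← hφ] at h ⊢
  exact PrimeSpectrum.isClosed_range_of_stableUnderSpecialization φ.hom h

theorem isClosed_of_isStandardV {T : Scheme.{u}} (F : PreZeroHypercover.{w} T) (hF : IsStandardV F) (Z : Set T)
    (h : ∀ j, IsClosed (F.f j ⁻¹' Z)) : IsClosed Z := by
  have := hF.isAffine
  have := hF.finite_index
  have hX : ∀ j, IsAffine (F.X j) := hF.isAffine_obj
  obtain ⟨n, ⟨e⟩⟩ := Finite.exists_equiv_fin F.I₀
  let C : ∀ k : Fin n, TopologicalSpace.Closeds (F.X (e.symm k)) := fun k =>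
    ⟨F.f (e.symm k) ⁻¹' Z, h (e.symm k)⟩
  let D : Fin n → Scheme.{u} := fun k => (Scheme.IdealSheafData.vanishingIdeal (C k)).subscheme
  have hD : ∀ k, IsAffine (D k) := fun k =>
    isAffine_of_isAffineHom (Scheme.IdealSheafData.vanishingIdeal (C k)).subschemeι
  let d : ∀ k, D k ⟶ T := fun k => (Scheme.IdealSheafData.vanishingIdeal (C k)).subschemeι ≫ F.f (e.symm k)
  have hr : ∀ k, Set.range (d k) = F.f (e.symm k) '' (F.f (e.symm k) ⁻¹' Z) := by
    intro k
    dsimp only [d]
    rw [Scheme.Hom.comp_base, TopCat.coe_comp, Set.range_comp, Scheme.IdealSheafData.range_subschemeι]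
    rfl
  have hZ : Set.range (Sigma.desc d) = Z := by
    apply subset_antisymm
    · rintro _ ⟨x, rfl⟩
      obtain ⟨k, y, rfl⟩ := (sigmaOpenCover D).exists_eq x
      have h1 : Sigma.desc d ((sigmaOpenCover D).f k y) = d k y := by
        rw [← Scheme.Hom.comp_apply]
        exact congrArg (fun f : D k ⟶ T => f y) (Sigma.ι_desc d k)
      rw [h1]
      have h2 : d k y ∈ Set.range (d k) := ⟨y, rfl⟩
      rw [hr] at h2
      obtain ⟨z, hz, hz'⟩ := h2
      rw [← hz']
      exact hz
    · intro x hx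
      obtain ⟨i, y, rfl⟩ := HasValLift.exists_preimage hF.lift x
      obtain ⟨k, rfl⟩ := e.symm.surjective i
      have h2 : F.f (e.symm k) y ∈ Set.range (d k) := by
        rw [hr]; exact ⟨y, hx, rfl⟩
      obtain ⟨z, hz⟩ := h2
      refine ⟨Sigma.ι D k z, ?_⟩
      rw [← hz, ← Scheme.Hom.comp_apply, Sigma.ι_desc]
  rw [← hZ]
  refine isClosed_range_of_affine _ ?_
  rw [hZ]
  intro y x hyx hy
  obtain ⟨i, y', x', h1, rfl, rfl⟩ := exists_lift_specializes hF.lift hyx
  exact h1.mem_closed (h i) hy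

theorem isClosed_of_isVCover {T : Scheme.{u}} (E : PreZeroHypercover.{w} T) (hE : IsVCover E) (Z : Set T)
    (h : ∀ j, IsClosed (E.f j ⁻¹' Z)) : IsClosed Z := by
  refine isClosed_of_closure_subset fun y hy => ?_
  obtain ⟨U, hU, hyU⟩ : ∃ U : T.Opens, IsAffineOpen U ∧ y ∈ U := by
    obtain ⟨_, ⟨U, hU, rfl⟩, hyU, -⟩ :=
      T.isBasis_affineOpens.exists_subset_of_mem_open (Set.mem_univ y) isOpen_univ
    exact ⟨U, hU, hyU⟩
  obtain ⟨F, hF, hr⟩ := hE ⟨U, hU⟩
  have h1 : IsClosed (U.ι ⁻¹' Z) := by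
    refine isClosed_of_isStandardV F hF _ fun j => ?_
    obtain ⟨i, k, hk⟩ := hr j
    have h2 : F.f j ⁻¹' (U.ι ⁻¹' Z) = k ⁻¹' (E.f i ⁻¹' Z) := by
      ext x
      simp only [Set.mem_preimage]
      rw [← Scheme.Hom.comp_apply, ← Scheme.Hom.comp_apply, hk]
    rw [h2]
    exact (h i).preimage k.continuous
  have h3 : (⟨y, hyU⟩ : U) ∈ closure (U.ι ⁻¹' Z) :=
    U.ι.isOpenEmbedding.isOpenMap.preimage_closure_subset_closure_preimage hy
  rw [h1.closure_eq] at h3
  exact h3

theorem univSubmersive_sigmaDesc {X : Scheme.{u}} (E : PreZeroHypercover.{u} X) (hE : IsVCover E) :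
    SGA1.UnivSubmersive (Sigma.desc E.f) := by
  intro Y' X' k g f' sq
  have hE' := K346.VStable.isVCover_pullback₁ g E hE
  let l : ∀ i : E.I₀, pullback g (E.f i) ⟶ Y' := fun i =>
    sq.lift (pullback.fst g (E.f i)) (pullback.snd g (E.f i) ≫ Sigma.ι E.X i) (by
      rw [Category.assoc, Sigma.ι_desc, pullback.condition])
  have hl : ∀ i, l i ≫ f' = pullback.fst g (E.f i) := fun i => sq.lift_fst _ _ _
  rw [AlgebraicGeometry.topologically, Topology.isQuotientMap_iff_isClosed]
  refine ⟨fun x => ?_, fun Z => ⟨fun hZ => hZ.preimage f'.continuous, fun hZ => ?_⟩⟩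
  · obtain ⟨i, y, hy⟩ := HasValLift.exists_preimage (K346.VStable.IsVCover.hasValLift hE') x
    change ↑(pullback g (E.f i)) at y
    refine ⟨l i y, ?_⟩
    rw [← hy, ← Scheme.Hom.comp_apply, hl]
    rfl
  · refine isClosed_of_isVCover _ hE' Z fun i => ?_
    have h2 : pullback.fst g (E.f i) ⁻¹' Z = (l i) ⁻¹' (f' ⁻¹' Z) := by
      ext x
      simp only [Set.mem_preimage]
      rw [← Scheme.Hom.comp_apply, hl]
    change IsClosed (pullback.fst g (E.f i) ⁻¹' Z)
    rw [h2]
    exact hZ.preimage (l i).continuous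

end K345.VTop
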